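import Groth.Agent.ModPairLocal.AIC
import Groth.Agent.AlgSpDec.BirationalStalk
import Groth.Agent.DimLocalBase.StrictPoint
import Mathlib.AlgebraicGeometry.Morphisms.Integral
import Mathlib.FieldTheory.IsAlgClosed.AlgebraicClosure

/-!
# Affine covers with algebraically closed residue fields
-/

set_option autoImplicit false
set_option linter.style.haveILetI false
set_option backward.isDefEq.respectTransparency false
set_option backward.isDefEq.respectTransparency.types false

universe u

open CategoryTheory CategoryTheory.Limits AlgebraicGeometry Polynomial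

noncomputable section

namespace Groth.Agent.AlgClosCover

theorem residue_gen {W : Scheme.{u}} [IsAffine W] (x : W) (z : W.residueField x) :
    ∃ a b : Γ(W, ⊤), (W.evaluation ⊤ x trivial).hom b ≠ 0 ∧
      z * (W.evaluation ⊤ x trivial).hom b = (W.evaluation ⊤ x trivial).hom a := by
  letI := W.presheaf.algebra_section_stalk (⟨x, trivial⟩ : (⊤ : W.Opens))
  haveI := (isAffineOpen_top W).isLocalization_stalk ⟨x, trivial⟩
  obtain ⟨z, rfl⟩ := W.residue_surjective x z
  obtain ⟨a, s, rfl⟩ := IsLocalization.exists_mk'_eq ((isAffineOpen_top W).primeIdealOf ⟨x, trivial⟩).asIdeal.primeCompl z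
  refine ⟨a, s, fun h => ?_, ?_⟩
  · have hu : IsUnit ((algebraMap Γ(W, ⊤) (W.presheaf.stalk x)) s) := IsLocalization.map_units _ s
    exact (hu.map (W.residue x).hom).ne_zero h
  · show (W.residue x).hom _ * (W.residue x).hom (algebraMap Γ(W, ⊤) (W.presheaf.stalk x) s) = _
    rw [← map_mul, IsLocalization.mk'_spec]
    rfl

theorem isAlgClosed_residueField {W : Scheme.{u}} [IsAffine W] (h : Curves.IsAIC Γ(W, ⊤)) (x : W) :
    IsAlgClosed (W.residueField x) := by
  letI := W.presheaf.algebra_section_stalk (⟨x, trivial⟩ : (⊤ : W.Opens))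
  haveI := (isAffineOpen_top W).isLocalization_stalk ⟨x, trivial⟩
  have h1 : Curves.IsAIC (W.presheaf.stalk x) :=
    ModPairLocal.isAIC_localization ((isAffineOpen_top W).primeIdealOf ⟨x, trivial⟩).asIdeal.primeCompl h
  refine IsAlgClosed.of_exists_root _ fun p hp hirr => ?_
  obtain ⟨q, hq, hqd, hqm⟩ := lifts_and_natDegree_eq_and_monic
    ((mem_lifts p).2 (map_surjective (W.residue x).hom (W.residue_surjective x) p)) hp
  obtain ⟨r, hr⟩ := h1 q hqm (hqd.symm ▸ hirr.natDegree_pos)
  exact ⟨(W.residue x).hom r, by rw [← hq, Polynomial.eval_map, eval₂_at_apply, hr, map_zero]⟩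

theorem isIntegral_residueFieldMap_of_isIntegralHom {W V : Scheme.{u}} [IsAffine W] [IsAffine V] (g : W ⟶ V)
    [IsIntegralHom g] (x : W) : (g.residueFieldMap x).hom.IsIntegral := by
  intro z
  letI := (g.residueFieldMap x).hom.toAlgebra
  have hi : g.appTop.hom.IsIntegral :=
    (HasAffineProperty.iff_of_isAffine (P := @IsIntegralHom) (f := g)).mp inferInstance |>.2
  refine (DimLocalBase.isAlgebraic_of_generated (g.residueFieldMap x).hom (RingHom.id (W.residueField x))
    (W.evaluation ⊤ x trivial).hom (fun a => ?_) (residue_gen x) (fun w => ?_) z).isIntegral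
  · obtain ⟨p, hp, hpa⟩ := hi a
    refine ⟨p.map (V.evaluation ⊤ (g x) trivial).hom, hp.map _, ?_⟩
    have hsq : (g.residueFieldMap x).hom.comp (V.evaluation ⊤ (g x) trivial).hom =
        (W.evaluation ⊤ x trivial).hom.comp g.appTop.hom := by
      rw [← CommRingCat.hom_comp, ← CommRingCat.hom_comp]
      exact congrArg CommRingCat.Hom.hom (Scheme.evaluation_naturality g x (V := ⊤) trivial)
    rw [eval₂_map, hsq, RingHom.id_apply, ← hom_eval₂, hpa, map_zero]
  · letI : Algebra (W.residueField x) (W.residueField x) := (RingHom.id _).toAlgebra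
    exact isAlgebraic_algebraMap w

theorem exists_integral_aic (A : Type u) [CommRing A] :
    ∃ (B : Type u) (_ : CommRing B) (_ : Algebra A B), Algebra.IsIntegral A B ∧ Curves.IsAIC B ∧
      Function.Surjective (PrimeSpectrum.comap (algebraMap A B)) := by
  let K := fun p : PrimeSpectrum A => AlgebraicClosure p.asIdeal.ResidueField
  let σ : A →+* ∀ p, K p := RingHom.pi fun p => (algebraMap p.asIdeal.ResidueField (K p)).comp (algebraMap A _)
  letI := σ.toAlgebra
  refine ⟨integralClosure A (∀ p, K p), inferInstance, inferInstance, inferInstance, fun f hf hd => ?_, fun p => ?_⟩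
  · let v := (integralClosure A (∀ p, K p)).val.toRingHom
    have hne : ∀ p, (f.map ((Pi.evalRingHom K p).comp v)).degree ≠ 0 := fun p => by
      haveI := ((Pi.evalRingHom K p).comp v).domain_nontrivial
      rw [hf.degree_map, degree_eq_natDegree hf.ne_zero]
      exact_mod_cast hd.ne'
    choose r hr using fun p => IsAlgClosed.exists_root (f.map ((Pi.evalRingHom K p).comp v)) (hne p)
    have hr0 : f.eval₂ v (fun p => r p) = 0 := funext fun p => by
      show Pi.evalRingHom K p _ = 0
      rw [hom_eval₂, ← Polynomial.eval_map]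
      exact hr p
    have hint : IsIntegral A (fun p => r p : ∀ p, K p) :=
      isIntegral_trans (A := integralClosure A (∀ p, K p)) _ ⟨f, hf, hr0⟩
    refine ⟨⟨_, hint⟩, Subtype.ext ?_⟩
    show v (f.eval _) = 0
    rw [← eval₂_at_apply]
    exact hr0
  · let χ : integralClosure A (∀ p, K p) →+* K p :=
      (Pi.evalRingHom K p).comp (integralClosure A (∀ p, K p)).val.toRingHom
    refine ⟨⟨RingHom.ker χ, RingHom.ker_isPrime χ⟩, PrimeSpectrum.ext (Ideal.ext fun a => ?_)⟩
    show algebraMap p.asIdeal.ResidueField (K p) (algebraMap A _ a) = 0 ↔ _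
    rw [map_eq_zero, Ideal.algebraMap_residueField_eq_zero]

end Groth.Agent.AlgClosCover
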